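import Groth.Agent.CycA.MovJetDim
import Groth.Agent.CalgC.RegSmooth
import Mathlib.RingTheory.Smooth.Locus

/-!
# Fibres of the module of differentials of an algebra of finite type over a field
-/

set_option autoImplicit false
universe u

open IsLocalRing TensorProduct Algebra

namespace K658.SmAlg

/-- `trdeg ≤ dim κ(q) ⊗ Ω` for a domain of finite type. -/
theorem le_finrank_of_trdeg {K R : Type u} [Field K] [CommRing R] [IsDomain R] [Algebra K R]
    [Algebra.FiniteType K R] (n : ℕ) (hn : Algebra.trdeg K R = n) (q : Ideal R) [q.IsPrime] :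
    n ≤ Module.finrank q.ResidueField (q.ResidueField ⊗[R] Ω[R⁄K]) := by
  let B := Localization.AtPrime q
  let L := FractionRing R
  have hqm : q.primeCompl ≤ nonZeroDivisors R := q.primeCompl_le_nonZeroDivisors
  let _ : Algebra B L := (IsLocalization.lift (M := q.primeCompl) (S := B) (g := algebraMap R L)
    fun y => IsLocalization.map_units L ⟨y.1, hqm y.2⟩).toAlgebra
  have : IsScalarTower R B L := .of_algebraMap_eq fun x => (IsLocalization.lift_eq _ x).symm
  have : IsScalarTower K B L := .of_algebraMap_eq fun x => by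
    rw [IsScalarTower.algebraMap_apply K R L, IsScalarTower.algebraMap_apply R B L,
      ← IsScalarTower.algebraMap_apply K R B]
  have : IsFractionRing B L := IsFractionRing.isFractionRing_of_isDomain_of_isLocalization q.primeCompl B L
  have : Algebra.EssFiniteType R B := Algebra.EssFiniteType.of_isLocalization B q.primeCompl
  have : Algebra.EssFiniteType K B := Algebra.EssFiniteType.comp K R B
  have h1 := Groth.Agent.CycA.MovJet.trdeg_le_finrank (K := K) (B := B) (L := L) (nonZeroDivisors B)
  have h2 : Algebra.trdeg K L = n := by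
    have : Algebra.IsAlgebraic R L := IsLocalization.isAlgebraic _ (nonZeroDivisors R)
    have : FaithfulSMul R L := (faithfulSMul_iff_algebraMap_injective _ _).mpr (IsFractionRing.injective R L)
    have : FaithfulSMul K R := (faithfulSMul_iff_algebraMap_injective _ _).mpr (algebraMap K R).injective
    have h2 := trdeg_add_eq K R (A := L)
    rw [trdeg_eq_zero (R := R) (A := L), add_zero] at h2
    rw [← h2, hn]
  rw [h2, Groth.Agent.CycA.MovJet.finrank_localization (K := K) q] at h1
  exact_mod_cast h1

/-- The fibres of the differentials of a quotient are smaller. -/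
theorem finrank_fiber_le {K A B : Type u} [CommRing K] [CommRing A] [CommRing B] [Algebra K A]
    [Algebra K B] [Algebra A B] [IsScalarTower K A B] [Module.Finite A Ω[A⁄K]]
    (hs : Function.Surjective (algebraMap A B)) (Q : Ideal B) [Q.IsPrime] (P : Ideal A) [P.IsPrime]
    (hPQ : P = Q.comap (algebraMap A B)) :
    Module.finrank Q.ResidueField (Q.ResidueField ⊗[B] Ω[B⁄K]) ≤
      Module.finrank P.ResidueField (P.ResidueField ⊗[A] Ω[A⁄K]) := by
  let φ : P.ResidueField →+* Q.ResidueField := Ideal.ResidueField.map P Q (algebraMap A B) hPQ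
  let _ : Algebra P.ResidueField Q.ResidueField := φ.toAlgebra
  have : IsScalarTower A P.ResidueField Q.ResidueField := .of_algebraMap_eq fun x ↦ by
    change algebraMap A Q.ResidueField x = φ (algebraMap A _ x)
    rw [Ideal.ResidueField.map_algebraMap, ← IsScalarTower.algebraMap_apply]
  let e3 : Q.ResidueField ⊗[P.ResidueField] (P.ResidueField ⊗[A] Ω[A⁄K]) ≃ₗ[Q.ResidueField]
      Q.ResidueField ⊗[A] Ω[A⁄K] :=
    AlgebraTensorModule.cancelBaseChange A P.ResidueField Q.ResidueField Q.ResidueField _
  let e4 : Q.ResidueField ⊗[B] (B ⊗[A] Ω[A⁄K]) ≃ₗ[Q.ResidueField] Q.ResidueField ⊗[A] Ω[A⁄K] :=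
    AlgebraTensorModule.cancelBaseChange A B Q.ResidueField Q.ResidueField _
  let g : Q.ResidueField ⊗[B] (B ⊗[A] Ω[A⁄K]) →ₗ[Q.ResidueField] Q.ResidueField ⊗[B] Ω[B⁄K] :=
    (KaehlerDifferential.mapBaseChange K A B).baseChange Q.ResidueField
  have hg : Function.Surjective g :=
    LinearMap.lTensor_surjective _ (KaehlerDifferential.mapBaseChange_surjective K A B hs)
  have h1 : Module.finrank Q.ResidueField
      (Q.ResidueField ⊗[P.ResidueField] (P.ResidueField ⊗[A] Ω[A⁄K])) =
      Module.finrank P.ResidueField (P.ResidueField ⊗[A] Ω[A⁄K]) := Module.finrank_baseChange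
  rw [← h1, e3.finrank_eq, ← e4.finrank_eq]
  exact LinearMap.finrank_le_finrank_of_surjective hg

/-- The fibre of the differentials at a point of an `n`-dimensional component has dimension at
least `n`. -/
theorem le_finrank_of_le_ringKrullDim (k : Type u) [Field k]
    (A : Type u) [CommRing A] [Algebra k A] [Algebra.FiniteType k A] (n : ℕ)
    (P : Ideal A) [P.IsPrime] (q : Ideal A) [q.IsPrime] (hqP : q ≤ P)
    (hq : (n : WithBot ℕ∞) ≤ ringKrullDim (A ⧸ q)) :
    n ≤ Module.finrank P.ResidueField (P.ResidueField ⊗[A] (Ω[A⁄k])) := by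
  let B := A ⧸ q
  let Q : Ideal B := P.map (Ideal.Quotient.mk q)
  have hs : Function.Surjective (algebraMap A B) := Ideal.Quotient.mk_surjective
  have hker : RingHom.ker (Ideal.Quotient.mk q) ≤ P := by rwa [Ideal.mk_ker]
  have hQ : Q.IsPrime := Ideal.map_isPrime_of_surjective Ideal.Quotient.mk_surjective hker
  have hPQ : P = Q.comap (algebraMap A B) := by
    change P = (P.map (Ideal.Quotient.mk q)).comap (Ideal.Quotient.mk q)
    rw [Ideal.comap_map_of_surjective _ Ideal.Quotient.mk_surjective]
    refine (sup_eq_left.2 ?_).symm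
    exact hker
  obtain ⟨m, hm, hm'⟩ := Groth.Agent.Ega4B.DimFT.exists_dim k B
  have hnm : n ≤ m := by
    rw [hm'] at hq
    exact_mod_cast hq
  exact (hnm.trans (le_finrank_of_trdeg m hm Q)).trans (finrank_fiber_le hs Q P hPQ)

/-- Over a perfect field, an algebra of finite type is smooth iff it is regular. -/
theorem smooth_iff_isRegularRing (k A : Type u) [Field k] [PerfectField k] [CommRing A] [Algebra k A]
    [Algebra.FiniteType k A] : Algebra.Smooth k A ↔ IsRegularRing A := by
  have hfp : Algebra.FinitePresentation k A := (Algebra.FinitePresentation.of_finiteType).1 inferInstance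
  have hN : IsNoetherianRing A := Algebra.FiniteType.isNoetherianRing k A
  constructor
  · intro h
    refine { isRegularLocalRing_localization := fun p _ ↦ ?_ }
    rw [← Groth.Agent.CalgC.RegSmooth.isSmoothAt_iff_isRegularLocalRing_of_perfectField (k := k)]
    have : (⟨p, inferInstance⟩ : PrimeSpectrum A) ∈ Algebra.smoothLocus k A := by
      rw [Algebra.smoothLocus_eq_univ]; trivial
    exact this
  · intro h
    have : Algebra.FormallySmooth k A := by
      rw [← Algebra.smoothLocus_eq_univ_iff, Set.eq_univ_iff_forall]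
      intro p
      change Algebra.IsSmoothAt k p.asIdeal
      rw [Groth.Agent.CalgC.RegSmooth.isSmoothAt_iff_isRegularLocalRing_of_perfectField]
      exact h.isRegularLocalRing_localization p.asIdeal
    exact ⟨inferInstance, inferInstance⟩

end K658.SmAlg
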