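import Groth.Agent.S4228
import Groth.Agent.Ega4A.RegDer
import Groth.Agent.SmVar.K658.SmAlg

/-!
# Hyperplane sections of smooth affine algebras

* `exists_polynomial`: for a smooth algebra `A` of finite type over a field `k`, generated by `x_0, …, x_n` with
  `x_j = 1`, there is a nonzero polynomial `G` such that `G(a) ≠ 0` implies that `∑ a_i x_i` has nonzero
  differential at every prime containing it.
* `smooth_quotient`: then `A / (∑ a_i x_i)` is smooth over `k`.
* `notMem_sq`: and `∑ a_i x_i` is not in the square of the maximal ideal at any prime containing it.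
-/

set_option autoImplicit false
universe u

open IsLocalRing TensorProduct Algebra KaehlerDifferential

namespace K658.AffBertini

section

variable {k : Type u} [Field k] {A : Type u} [CommRing A] [Algebra k A]

/-- `t` is transversal: its differential does not vanish at any prime containing it. -/
def Transv (k : Type u) {A : Type u} [CommRing k] [CommRing A] [Algebra k A] (t : A) : Prop :=
  ∀ (p : Ideal A) [p.IsPrime], t ∈ p → (1 : p.ResidueField) ⊗ₜ[A] D k A t ≠ 0

/-- The chart polynomial of a smooth algebra. -/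
theorem exists_polynomial_aux [Algebra.Smooth k A] (n : ℕ) (x : Fin n → A)
    (hx : Function.Surjective (MvPolynomial.aeval x : MvPolynomial (Fin n) k →ₐ[k] A)) :
    ∃ G : MvPolynomial (Fin (n + 1)) k, G ≠ 0 ∧ ∀ (a : Fin (n + 1) → k), MvPolynomial.eval a G ≠ 0 →
      Transv k (algebraMap k A (a 0) + ∑ i : Fin n, algebraMap k A (a i.succ) * x i) := by
  classical
  have hNA : IsNoetherianRing A := Algebra.FiniteType.isNoetherianRing k A
  let 𝒢 : Set A := {g | ∃ r, (algebraMap k (Localization.Away g)).IsStandardSmoothOfRelativeDimension r}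
  have h𝒢 : Ideal.span 𝒢 = ⊤ := by
    by_contra hne
    obtain ⟨p, hp, hle⟩ := Ideal.exists_le_maximal _ hne
    have hpp : p.IsPrime := hp.isPrime
    have h1 : Algebra.IsSmoothAt k p := by
      have h2 : (⟨p, inferInstance⟩ : PrimeSpectrum A) ∈ Algebra.smoothLocus k A := by
        rw [Algebra.smoothLocus_eq_univ]; trivial
      exact h2
    obtain ⟨g, hg, hsm⟩ := Algebra.IsSmoothAt.exists_notMem_isStandardSmooth k p
    obtain ⟨_, _, _, _, ⟨P⟩⟩ := hsm
    refine hg (hle (Ideal.subset_span ⟨P.dimension, ?_⟩))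
    rw [RingHom.isStandardSmoothOfRelativeDimension_algebraMap]
    exact ⟨_, _, _, ‹_›, P, rfl⟩
  obtain ⟨T, hT𝒢, hTs⟩ : ∃ T : Finset A, (T : Set A) ⊆ 𝒢 ∧ Ideal.span 𝒢 = Ideal.span (T : Set A) := by
    exact Submodule.fg_span_iff_fg_span_finset_subset 𝒢 |>.1 (IsNoetherian.noetherian _)
  have key : ∀ g ∈ 𝒢, ∃ G : MvPolynomial (Fin (n + 1)) k, G ≠ 0 ∧ ∀ (p : Ideal A) [p.IsPrime]
      (a : Fin (n + 1) → k), g ∉ p →
      (algebraMap k A (a 0) + ∑ i : Fin n, algebraMap k A (a i.succ) * x i) ∈ p →
      (1 : p.ResidueField) ⊗ₜ[A] D k A (algebraMap k A (a 0) + ∑ i : Fin n, algebraMap k A (a i.succ) * x i) = 0 →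
      MvPolynomial.eval a G = 0 := by
    rintro g ⟨r, hr⟩
    exact Groth.Agent.S4228.exists_chart n r x hx g hr
  choose! G hG0 hG using key
  refine ⟨∏ g ∈ T, G g, Finset.prod_ne_zero_iff.2 fun g hg => hG0 g (hT𝒢 hg), fun a ha p hp hap hd => ?_⟩
  obtain ⟨g, hgT, hgp⟩ : ∃ g ∈ T, g ∉ p := by
    by_contra hcon
    push Not at hcon
    have h1 : Ideal.span 𝒢 ≤ p := by rw [hTs, Ideal.span_le]; exact hcon
    rw [h𝒢] at h1
    exact hp.ne_top (top_le_iff.1 h1)
  apply ha
  rw [map_prod]
  exact Finset.prod_eq_zero hgT (hG g (hT𝒢 hgT) p a hgp hap hd)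

/-- The chart polynomial of a smooth algebra, symmetric form. -/
theorem exists_polynomial [Algebra.Smooth k A] (n : ℕ) (x : Fin (n + 1) → A) (j : Fin (n + 1)) (hj : x j = 1)
    (hx : Function.Surjective (MvPolynomial.aeval x : MvPolynomial (Fin (n + 1)) k →ₐ[k] A)) :
    ∃ G : MvPolynomial (Fin (n + 1)) k, G ≠ 0 ∧ ∀ (a : Fin (n + 1) → k), MvPolynomial.eval a G ≠ 0 →
      Transv k (∑ i, algebraMap k A (a i) * x i) := by
  let y : Fin n → A := fun i => x (j.succAbove i)
  have hy : Function.Surjective (MvPolynomial.aeval y : MvPolynomial (Fin n) k →ₐ[k] A) := by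
    rw [← AlgHom.range_eq_top, ← Algebra.adjoin_range_eq_range_aeval]
    rw [← AlgHom.range_eq_top, ← Algebra.adjoin_range_eq_range_aeval] at hx
    rw [_root_.eq_top_iff, ← hx, Algebra.adjoin_le_iff]
    rintro _ ⟨i, rfl⟩
    rcases Fin.eq_self_or_eq_succAbove j i with h | ⟨l, h⟩
    · rw [h, hj]; exact one_mem _
    · rw [h]; exact Algebra.subset_adjoin ⟨l, rfl⟩
  obtain ⟨G, hG0, hG⟩ := exists_polynomial_aux n y hy
  let σ : Fin (n + 1) → Fin (n + 1) := Fin.cons j j.succAbove
  have hσ : Function.Injective σ := by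
    rw [Fin.cons_injective_iff]
    refine ⟨?_, Fin.succAbove_right_injective⟩
    rintro ⟨i, hi⟩
    exact Fin.succAbove_ne j i hi
  refine ⟨MvPolynomial.rename σ G, ?_, fun a ha => ?_⟩
  · intro h0
    exact hG0 (MvPolynomial.rename_injective σ hσ (by rw [h0, map_zero]))
  · rw [MvPolynomial.eval_rename] at ha
    have h1 := hG (a ∘ σ) ha
    have h2 : algebraMap k A ((a ∘ σ) 0) + ∑ i : Fin n, algebraMap k A ((a ∘ σ) i.succ) * y i =
        ∑ i, algebraMap k A (a i) * x i := by
      rw [Fin.sum_univ_succAbove _ j, hj, mul_one]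
      simp only [Function.comp_apply, σ, Fin.cons_zero, Fin.cons_succ, y]
    rw [h2] at h1
    exact h1

/-- The zero locus of a transversal element of a smooth algebra is smooth. -/
theorem smooth_quotient [Algebra.Smooth k A] (t : A) (ht : Transv k t) :
    Algebra.Smooth k (A ⧸ Ideal.span {t}) := by
  have hfp : Algebra.FinitePresentation k (A ⧸ Ideal.span {t}) :=
    Algebra.FinitePresentation.of_finiteType.1 inferInstance
  have : Algebra.FormallySmooth k (A ⧸ Ideal.span {t}) := by
    rw [← Algebra.smoothLocus_eq_univ_iff, Set.eq_univ_iff_forall]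
    intro q
    let p : Ideal A := q.asIdeal.comap (Ideal.Quotient.mk (Ideal.span {t}))
    have hpp : p.IsPrime := inferInstance
    have h1 : Algebra.IsSmoothAt k p := by
      have h2 : (⟨p, inferInstance⟩ : PrimeSpectrum A) ∈ Algebra.smoothLocus k A := by
        rw [Algebra.smoothLocus_eq_univ]; trivial
      exact h2
    obtain ⟨g, hg, hsm⟩ := Algebra.IsSmoothAt.exists_notMem_isStandardSmooth k p
    obtain ⟨_, _, _, _, ⟨P⟩⟩ := hsm
    have hstd : (algebraMap k (Localization.Away g)).IsStandardSmoothOfRelativeDimension P.dimension := by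
      rw [RingHom.isStandardSmoothOfRelativeDimension_algebraMap]
      exact ⟨_, _, _, ‹_›, P, rfl⟩
    have htp : t ∈ p := by
      change Ideal.Quotient.mk _ _ ∈ q.asIdeal
      rw [Ideal.Quotient.eq_zero_iff_mem.2 (Ideal.mem_span_singleton_self _)]
      exact zero_mem _
    obtain ⟨f, hf, hstdf⟩ := Groth.Agent.An.H548.JacOne.exists_standardSmooth_quotient t P.dimension q.asIdeal g hg hstd
      (ht p htp)
    rw [RingHom.isStandardSmoothOfRelativeDimension_algebraMap] at hstdf
    have hss : Algebra.IsStandardSmooth k (Localization.Away f) := hstdf.isStandardSmooth _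
    exact Algebra.basicOpen_subset_smoothLocus_iff_smooth.2 inferInstance
      (show q ∈ PrimeSpectrum.basicOpen f from hf)
  exact ⟨inferInstance, inferInstance⟩

/-- A transversal element is not in the square of the maximal ideal of any local ring. -/
theorem notMem_sq (t : A) (ht : Transv k t) (p : Ideal A) [p.IsPrime] (htp : t ∈ p)
    (R : Type*) [CommRing R] [Algebra A R] [IsLocalization.AtPrime R p] [IsLocalRing R] :
    algebraMap A R t ∈ maximalIdeal R ∧ algebraMap A R t ∉ maximalIdeal R ^ 2 := by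
  refine ⟨(IsLocalization.AtPrime.to_map_mem_maximal_iff R p t).2 htp, fun h => ht p htp ?_⟩
  rw [← IsLocalization.AtPrime.map_eq_maximalIdeal p R, ← Ideal.map_pow,
    IsLocalization.algebraMap_mem_map_algebraMap_iff p.primeCompl] at h
  obtain ⟨s, hs, hst⟩ := h
  have h0 : ∀ z ∈ p ^ 2, (1 : p.ResidueField) ⊗ₜ[A] D k A z = 0 := by
    intro z hz
    rw [pow_two] at hz
    refine Submodule.mul_induction_on hz (fun a ha b hb => ?_) (fun a b ha hb => ?_)
    · have ha' : algebraMap A p.ResidueField a = 0 := Ideal.algebraMap_residueField_eq_zero.2 ha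
      have hb' : algebraMap A p.ResidueField b = 0 := Ideal.algebraMap_residueField_eq_zero.2 hb
      rw [Derivation.leibniz, TensorProduct.tmul_add, ← TensorProduct.smul_tmul, ← TensorProduct.smul_tmul,
        Algebra.smul_def, Algebra.smul_def, ha', hb', zero_mul, TensorProduct.zero_tmul, TensorProduct.zero_tmul,
        add_zero]
    · rw [map_add, TensorProduct.tmul_add, ha, hb, add_zero]
  have h1 := h0 _ hst
  have ht' : algebraMap A p.ResidueField t = 0 := Ideal.algebraMap_residueField_eq_zero.2 htp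
  rw [Derivation.leibniz, TensorProduct.tmul_add, ← TensorProduct.smul_tmul t, Algebra.smul_def t, ht', zero_mul,
    TensorProduct.zero_tmul, add_zero, ← TensorProduct.smul_tmul, Algebra.smul_def, mul_one] at h1
  have hs' : algebraMap A p.ResidueField s ≠ 0 := fun h => hs (Ideal.algebraMap_residueField_eq_zero.1 h)
  have h2 := congrArg (fun z => (algebraMap A p.ResidueField s)⁻¹ • z) h1
  simp only [smul_zero, TensorProduct.smul_tmul', smul_eq_mul, inv_mul_cancel₀ hs'] at h2
  exact h2

/-- The quotient of a regular local ring of a variety by a transversal element is regular. -/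
theorem isRegularLocalRing_quotient (t : A) (ht : Transv k t) (p : Ideal A) [p.IsPrime] (htp : t ∈ p)
    (R : Type*) [CommRing R] [Algebra A R] [IsLocalization.AtPrime R p] [IsRegularLocalRing R] :
    IsRegularLocalRing (R ⧸ Ideal.span {algebraMap A R t}) :=
  Groth.Agent.Ega4A.RegDer.isRegularLocalRing_quotient_of_notMem_sq (notMem_sq t ht p htp R).1
    (notMem_sq t ht p htp R).2

theorem Transv.ne_zero [Nontrivial A] {t : A} (ht : Transv k t) : t ≠ 0 := by
  rintro rfl
  obtain ⟨p, hp⟩ := Ideal.exists_maximal A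
  have := hp.isPrime
  exact ht p (zero_mem p) (by rw [map_zero, TensorProduct.tmul_zero])

end

end K658.AffBertini
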