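import Groth.Agent.Ega2.H298.ProjExt
import Groth.Agent.SmVar.K658.AffBertini
import Mathlib.RingTheory.MvPolynomial.Homogeneous

/-!
# Hyperplane sections of closed subschemes of projective space on the standard charts
-/

set_option autoImplicit false
universe u
open CategoryTheory CategoryTheory.Limits AlgebraicGeometry TopologicalSpace Opposite HomogeneousLocalization
open Groth.Agent.VarietyB Groth.Agent.VarietyB.ProjHom Groth.Agent.VarietyB.ProjGlue
open Groth.Agent.Ega2.H298.ProjRatio Groth.Agent.Ega2.H298.ProjExt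

namespace K658.ProjSec

variable (k : Type u) [Field k] (n : ℕ)

/-- The coordinate `X_j` as an element of degree one. -/
noncomputable def X1 (j : Fin (n + 1)) : CohB1.polyGrading n k 1 :=
  ⟨MvPolynomial.X j, MvPolynomial.isHomogeneous_X k j⟩

variable {k n}

/-- A linear form is the sum of its coefficients times the coordinates. -/
theorem linear_eq_sum (h : CohB1.polyGrading n k 1) :
    (h : MvPolynomial (Fin (n + 1)) k) =
      ∑ i, MvPolynomial.C (MvPolynomial.coeff (Finsupp.single i 1) (h : MvPolynomial (Fin (n + 1)) k)) *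
        MvPolynomial.X i := by
  classical
  obtain ⟨h, hh⟩ := h
  have hh' : h.IsHomogeneous 1 := hh
  ext m
  rw [MvPolynomial.coeff_sum]
  by_cases hm : m.degree = 1
  · obtain ⟨i, rfl⟩ : ∃ i, m = Finsupp.single i 1 := by
      have h2 : m ∈ Set.range (fun a : Fin (n + 1) ↦ Finsupp.single a 1) := by
        rw [Finsupp.range_single_one]; exact hm
      obtain ⟨i, hi⟩ := h2
      exact ⟨i, hi.symm⟩
    rw [Finset.sum_eq_single i]
    · rw [MvPolynomial.coeff_C_mul, MvPolynomial.coeff_X, if_pos rfl, mul_one]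
    · intro j _ hj
      rw [MvPolynomial.coeff_C_mul, MvPolynomial.coeff_X, if_neg, mul_zero]
      intro h
      exact hj (Finsupp.single_left_injective one_ne_zero h)
    · intro h; exact absurd (Finset.mem_univ i) h
  · have h1 : MvPolynomial.coeff m h = 0 := hh'.coeff_eq_zero hm
    change MvPolynomial.coeff m h = _
    rw [h1]
    symm
    refine Finset.sum_eq_zero fun i _ => ?_
    rw [MvPolynomial.coeff_C_mul, MvPolynomial.coeff_X, if_neg, mul_zero]
    rintro rfl
    exact hm (by simp)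

/-- The linear form with given coefficients. -/
noncomputable def lin (a : Fin (n + 1) → k) : CohB1.polyGrading n k 1 :=
  ⟨∑ i, MvPolynomial.C (a i) * MvPolynomial.X i, by
    refine sum_mem fun i _ => ?_
    have := (MvPolynomial.isHomogeneous_C (Fin (n + 1)) (a i)).mul (MvPolynomial.isHomogeneous_X k i)
    rwa [zero_add] at this⟩

theorem coeff_lin (a : Fin (n + 1) → k) (i : Fin (n + 1)) :
    MvPolynomial.coeff (Finsupp.single i 1) (lin a : MvPolynomial (Fin (n + 1)) k) = a i := by
  classical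
  change MvPolynomial.coeff (Finsupp.single i 1) (∑ i, MvPolynomial.C (a i) * MvPolynomial.X i) = a i
  rw [MvPolynomial.coeff_sum, Finset.sum_eq_single i]
  · rw [MvPolynomial.coeff_C_mul, MvPolynomial.coeff_X, if_pos rfl, mul_one]
  · intro j _ hj
    rw [MvPolynomial.coeff_C_mul, MvPolynomial.coeff_X, if_neg, mul_zero]
    intro h
    exact hj (Finsupp.single_left_injective one_ne_zero h)
  · intro h; exact absurd (Finset.mem_univ i) h

section chart

variable {X : Scheme.{u}} (ι : X ⟶ Proj (CohB1.polyGrading n k)) (j : Fin (n + 1))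

/-- The chart `X ∩ D_+(X_j)`. -/
noncomputable abbrev W : X.Opens := ι ⁻¹ᵁ Proj.basicOpen (CohB1.polyGrading n k) (X1 k n j).1

/-- The ring homomorphism from the polynomial ring, `f ↦ f / X_j ^ deg f`. -/
noncomputable def θ : MvPolynomial (Fin (n + 1)) k →+* Γ(X, W ι j) :=
  (resHom (CohB1.polyGrading n k) ι (X1 k n j) le_rfl).comp (deh (CohB1.polyGrading n k) (X1 k n j))

theorem θ_lin (h : CohB1.polyGrading n k 1) :
    θ ι j h = ι.app _ (ratio (CohB1.polyGrading n k) (X1 k n j) h) := by
  change resHom (CohB1.polyGrading n k) ι (X1 k n j) le_rfl (deh (CohB1.polyGrading n k) (X1 k n j) h.1) = _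
  rw [deh_frac, resHom_frac]
  exact Groth.Agent.Fdesc.LocGen.ores_refl _

theorem θ_self : θ ι j (MvPolynomial.X j) = 1 := by
  have h1 : frac (CohB1.polyGrading n k) (X1 k n j) (X1 k n j) = 1 := by
    apply HomogeneousLocalization.val_injective
    rw [frac, HomogeneousLocalization.Away.val_mk, HomogeneousLocalization.val_one,
      ← Localization.mk_self (⟨(X1 k n j).1 ^ 1, ⟨1, rfl⟩⟩ : Submonoid.powers (X1 k n j).1)]
    congr 1
    exact (pow_one _).symm
  change resHom (CohB1.polyGrading n k) ι (X1 k n j) le_rfl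
    (deh (CohB1.polyGrading n k) (X1 k n j) (X1 k n j).1) = _
  rw [deh_frac, h1, map_one]

theorem θ_C (a : k) : θ ι j (MvPolynomial.C a) =
    CoordData.baseHom (ι ≫ CohB1.ProjSpace.toSpec n k) (W ι j) a := by
  have h2 := deh_algebraMap (CohB1.polyGrading n k) (X1 k n j) a
  rw [MvPolynomial.algebraMap_eq] at h2
  have h3 := resHom_algebraMap (CohB1.polyGrading n k) ι (X1 k n j) (le_refl (W ι j)) a
  rw [← h2] at h3
  exact h3

theorem θ_surjective [IsClosedImmersion ι] : Function.Surjective (θ ι j) := by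
  have hU : IsAffineOpen (Proj.basicOpen (CohB1.polyGrading n k) (X1 k n j).1) :=
    Proj.isAffineOpen_basicOpen _ (X1 k n j).1 (X1 k n j).2 Nat.one_pos
  have h1 : Function.Surjective (ι.appLE (Proj.basicOpen (CohB1.polyGrading n k) (X1 k n j).1)
      (ι ⁻¹ᵁ Proj.basicOpen (CohB1.polyGrading n k) (X1 k n j).1) le_rfl) := by
    have h2 := ι.app_surjective _ hU
    rw [Scheme.Hom.app_eq_appLE] at h2
    exact h2
  have h3 : Function.Surjective (Proj.awayToSection (CohB1.polyGrading n k) (X1 k n j).1) :=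
    (Proj.basicOpenIsoAway (CohB1.polyGrading n k) (X1 k n j).1 (X1 k n j).2
      Nat.one_pos).commRingCatIsoToRingEquiv.surjective
  exact (h1.comp h3).comp (deh_surjective (CohB1.polyGrading n k) (X1 k n j))

theorem isAffineOpen_W [IsClosedImmersion ι] : IsAffineOpen (W ι j) :=
  (Proj.isAffineOpen_basicOpen _ _ (X1 k n j).2 Nat.one_pos).preimage ι

/-- The `k`-algebra structure of the ring of the chart. -/
noncomputable abbrev alg : Algebra k Γ(X, W ι j) := ((θ ι j).comp MvPolynomial.C).toAlgebra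

theorem algebraMap_alg : @algebraMap k Γ(X, W ι j) _ _ (alg ι j) =
    CoordData.baseHom (ι ≫ CohB1.ProjSpace.toSpec n k) (W ι j) := by
  ext a
  exact θ_C ι j a

theorem aeval_eq (P : MvPolynomial (Fin (n + 1)) k) :
    letI := alg ι j
    (MvPolynomial.aeval (fun i => θ ι j (MvPolynomial.X i)) : _ →ₐ[k] Γ(X, W ι j)) P = θ ι j P := by
  letI := alg ι j
  induction P using MvPolynomial.induction_on with
  | C c => rw [MvPolynomial.aeval_C]; rfl
  | add P Q hP hQ => rw [map_add, map_add, hP, hQ]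
  | mul_X P i hP => rw [map_mul, map_mul, MvPolynomial.aeval_X, hP]

theorem θ_sum (h : CohB1.polyGrading n k 1) :
    letI := alg ι j
    θ ι j h = ∑ i, algebraMap k Γ(X, W ι j)
      (MvPolynomial.coeff (Finsupp.single i 1) (h : MvPolynomial (Fin (n + 1)) k)) * θ ι j (MvPolynomial.X i) := by
  letI := alg ι j
  conv_lhs => rw [linear_eq_sum h]
  rw [map_sum]
  refine Finset.sum_congr rfl fun i _ => ?_
  rw [map_mul]
  rfl

theorem mem_W (x : X) (hj : (MvPolynomial.X j : MvPolynomial (Fin (n + 1)) k) ∉ (ι x).asHomogeneousIdeal) :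
    x ∈ W ι j := hj

theorem exists_mem_W (x : X) : ∃ j, x ∈ W ι j := by
  have h1 : ⨆ j, Proj.basicOpen (CohB1.polyGrading n k) (X1 k n j).1 = ⊤ :=
    iSup_basicOpen_eq_top (CohB1.polyGrading n k) (X1 k n) MvPolynomial.adjoin_range_X
  have h2 : ι x ∈ ⨆ j, Proj.basicOpen (CohB1.polyGrading n k) (X1 k n j).1 := h1 ▸ trivial
  obtain ⟨j, hj⟩ := Opens.mem_iSup.1 h2
  exact ⟨j, hj⟩

/-- The germ at `x` of the equation of the hyperplane section on the chart. -/
theorem germ_θ (x : X) (hj : (MvPolynomial.X j : MvPolynomial (Fin (n + 1)) k) ∉ (ι x).asHomogeneousIdeal)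
    (h : CohB1.polyGrading n k 1) :
    X.presheaf.germ (W ι j) x (mem_W ι j x hj) (θ ι j h) =
      (ι.stalkMap x).hom ((Proj.stalkIso' (CohB1.polyGrading n k) (ι x)).symm
        (HomogeneousLocalization.mk ⟨1, h, ⟨MvPolynomial.X j, MvPolynomial.isHomogeneous_X k j⟩, hj⟩)) := by
  rw [θ_lin]
  have h1 : (Proj.stalkIso' (CohB1.polyGrading n k) (ι x)).symm
        (HomogeneousLocalization.mk ⟨1, h, ⟨MvPolynomial.X j, MvPolynomial.isHomogeneous_X k j⟩, hj⟩) =
      (Proj (CohB1.polyGrading n k)).presheaf.germ (Proj.basicOpen (CohB1.polyGrading n k) (X1 k n j).1) (ι x) hj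
        (ratio (CohB1.polyGrading n k) (X1 k n j) h) := by
    refine (RingEquiv.symm_apply_eq _).2 ?_
    refine Eq.trans ?_ (Proj.stalkIso'_germ (𝒜 := CohB1.polyGrading n k)
      (Proj.basicOpen (CohB1.polyGrading n k) (X1 k n j).1) (ι x) hj
        (ratio (CohB1.polyGrading n k) (X1 k n j) h)).symm
    apply HomogeneousLocalization.val_injective
    exact (ratio_apply (CohB1.polyGrading n k) (X1 k n j) h ⟨ι x, hj⟩).symm
  rw [h1]
  exact (Scheme.Hom.germ_stalkMap_apply ι _ x hj _).symm

theorem mem_basicOpen_θ (x : X) (hx : x ∈ W ι j) (h : CohB1.polyGrading n k 1) :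
    x ∈ X.basicOpen (θ ι j h) ↔ (h : MvPolynomial (Fin (n + 1)) k) ∉ (ι x).asHomogeneousIdeal := by
  rw [θ_lin, ← Scheme.preimage_basicOpen, basicOpen_ratio]
  constructor
  · intro h1; exact h1.2
  · intro h1; exact ⟨hx, h1⟩

theorem isUnit_germ_iff (x : X) (hx : x ∈ W ι j) (h : CohB1.polyGrading n k 1) :
    IsUnit (X.presheaf.germ (W ι j) x hx (θ ι j h)) ↔
      (h : MvPolynomial (Fin (n + 1)) k) ∉ (ι x).asHomogeneousIdeal := by
  rw [← mem_basicOpen_θ ι j x hx h, Scheme.mem_basicOpen]

/-- Hyperplanes outside a proper closed set are transversal to a smooth closed subscheme. -/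
theorem exists_good [IsClosedImmersion ι] (hsm : ∀ j, letI := alg ι j; Algebra.Smooth k Γ(X, W ι j)) :
    ∃ G : MvPolynomial (Fin (n + 1)) k, G ≠ 0 ∧ ∀ h : CohB1.polyGrading n k 1,
      MvPolynomial.eval (fun i => MvPolynomial.coeff (Finsupp.single i 1) (h : MvPolynomial (Fin (n + 1)) k)) G ≠ 0 →
        ∀ j, letI := alg ι j; AffBertini.Transv k (θ ι j h) := by
  classical
  have key : ∀ j, ∃ G : MvPolynomial (Fin (n + 1)) k, G ≠ 0 ∧ ∀ (a : Fin (n + 1) → k), MvPolynomial.eval a G ≠ 0 →
      letI := alg ι j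
      AffBertini.Transv k (∑ i, algebraMap k Γ(X, W ι j) (a i) * θ ι j (MvPolynomial.X i)) := by
    intro j
    let _ := alg ι j
    have := hsm j
    refine AffBertini.exists_polynomial n (fun i => θ ι j (MvPolynomial.X i)) j (θ_self ι j) fun y => ?_
    obtain ⟨P, hP⟩ := θ_surjective ι j y
    exact ⟨P, (aeval_eq ι j P).trans hP⟩
  choose G hG0 hG using key
  refine ⟨∏ j, G j, Finset.prod_ne_zero_iff.2 fun j _ => hG0 j, fun h hh j => ?_⟩
  have h1 : MvPolynomial.eval (fun i => MvPolynomial.coeff (Finsupp.single i 1)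
      (h : MvPolynomial (Fin (n + 1)) k)) (G j) ≠ 0 := by
    intro h0
    apply hh
    rw [map_prod]
    exact Finset.prod_eq_zero (Finset.mem_univ j) h0
  have h2 := hG j _ h1
  rw [θ_sum ι j h]
  exact h2

/-- The charts of a regular closed subscheme over a perfect field are smooth. -/
theorem smooth_of_regular [PerfectField k] [IsClosedImmersion ι]
    (hreg : ∀ x : ↥X, IsRegularLocalRing ↑(X.presheaf.stalk x)) (j : Fin (n + 1)) :
    letI := alg ι j; Algebra.Smooth k Γ(X, W ι j) := by
  let _ := alg ι j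
  have hft : Algebra.FiniteType k Γ(X, W ι j) :=
    Algebra.FiniteType.of_surjective (MvPolynomial.aeval (fun i => θ ι j (MvPolynomial.X i)) :
      MvPolynomial (Fin (n + 1)) k →ₐ[k] Γ(X, W ι j)) fun y => by
        obtain ⟨P, hP⟩ := θ_surjective ι j y
        exact ⟨P, (aeval_eq ι j P).trans hP⟩
  have hN : IsNoetherianRing Γ(X, W ι j) := Algebra.FiniteType.isNoetherianRing k _
  rw [SmAlg.smooth_iff_isRegularRing]
  refine { isRegularLocalRing_localization := fun p _ ↦ ?_ }
  have hU := isAffineOpen_W ι j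
  let y : PrimeSpectrum Γ(X, W ι j) := ⟨p, inferInstance⟩
  have hy : hU.fromSpec y ∈ W ι j := by
    have : hU.fromSpec y ∈ hU.fromSpec.opensRange := ⟨y, rfl⟩
    rwa [hU.opensRange_fromSpec] at this
  let _ : Algebra Γ(X, W ι j) (X.presheaf.stalk (hU.fromSpec y)) :=
    TopCat.Presheaf.algebra_section_stalk X.presheaf ⟨hU.fromSpec y, hy⟩
  have hloc : IsLocalization.AtPrime (X.presheaf.stalk (hU.fromSpec y)) p := hU.isLocalization_stalk' y hy
  have := hreg (hU.fromSpec y)
  exact IsRegularLocalRing.of_ringEquiv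
    (IsLocalization.algEquiv p.primeCompl (X.presheaf.stalk (hU.fromSpec y)) (Localization.AtPrime p)).toRingEquiv

/-- A transversal hyperplane does not contain an integral scheme. -/
theorem exists_notMem [IsIntegral X] (h : CohB1.polyGrading n k 1)
    (ht : ∀ j, letI := alg ι j; AffBertini.Transv k (θ ι j h)) :
    ∃ x : X, (h : MvPolynomial (Fin (n + 1)) k) ∉ (ι x).asHomogeneousIdeal := by
  obtain ⟨x⟩ : Nonempty X := inferInstance
  obtain ⟨j, hx⟩ := exists_mem_W ι x
  by_contra hcon
  push Not at hcon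
  have h1 : X.basicOpen (θ ι j h) = ⊥ := by
    rw [eq_bot_iff]
    intro y hy
    have hyW : y ∈ W ι j := X.basicOpen_le _ hy
    exact absurd (hcon y) ((mem_basicOpen_θ ι j y hyW h).1 hy)
  rw [basicOpen_eq_bot_iff] at h1
  let _ := alg ι j
  have : Nonempty (W ι j) := ⟨⟨x, hx⟩⟩
  exact (ht j).ne_zero h1

/-- The local rings of transversal hyperplane sections of regular schemes are regular. -/
theorem isRegularLocalRing_quotient [IsClosedImmersion ι]
    (hreg : ∀ x : ↥X, IsRegularLocalRing ↑(X.presheaf.stalk x)) (h : CohB1.polyGrading n k 1)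
    (ht : letI := alg ι j; AffBertini.Transv k (θ ι j h)) (x : X)
    (hhx : (h : MvPolynomial (Fin (n + 1)) k) ∈ (ι x).asHomogeneousIdeal)
    (hj : (MvPolynomial.X j : MvPolynomial (Fin (n + 1)) k) ∉ (ι x).asHomogeneousIdeal) :
    IsRegularLocalRing (↑(X.presheaf.stalk x) ⧸ Ideal.span
      {(ι.stalkMap x).hom ((Proj.stalkIso' (CohB1.polyGrading n k) (ι x)).symm
        (HomogeneousLocalization.mk
          ⟨1, h, ⟨MvPolynomial.X j, MvPolynomial.isHomogeneous_X k j⟩, hj⟩))}) := by
  rw [← germ_θ ι j x hj h]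
  have hU := isAffineOpen_W ι j
  have hx : x ∈ W ι j := hj
  let _ := alg ι j
  let _ : Algebra Γ(X, W ι j) (X.presheaf.stalk x) := TopCat.Presheaf.algebra_section_stalk X.presheaf ⟨x, hx⟩
  let p := (hU.primeIdealOf ⟨x, hx⟩).asIdeal
  have hloc : IsLocalization.AtPrime (X.presheaf.stalk x) p := hU.isLocalization_stalk ⟨x, hx⟩
  have := hreg x
  refine AffBertini.isRegularLocalRing_quotient (θ ι j h) ht p ?_ (X.presheaf.stalk x)
  rw [← IsLocalization.AtPrime.to_map_mem_maximal_iff (X.presheaf.stalk x) p, IsLocalRing.mem_maximalIdeal,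
    mem_nonunits_iff]
  intro hu
  exact (isUnit_germ_iff ι j x hx h).1 hu hhx

end chart

end K658.ProjSec
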