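import Groth.Agent.SmVar.K658.ProjSec
import Groth.Agent.Divis.IdealComap
import Groth.Agent.Pi1C.ZeroScheme
import Groth.Agent.Ega2.TwistInv
import Mathlib.AlgebraicGeometry.Morphisms.Smooth

/-!
# Smoothness of hyperplane sections, scheme form
-/

set_option autoImplicit false
universe u
open CategoryTheory CategoryTheory.Limits AlgebraicGeometry TopologicalSpace Opposite HomogeneousLocalization
open Groth.Agent.VarietyB Groth.Agent.VarietyB.ProjHom Groth.Agent.VarietyB.ProjGlue
open Groth.Agent.Ega2.H298.ProjRatio Groth.Agent.Ega2.H298.ProjExt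

namespace K658.SecSmooth

variable {k : Type u} [CommRing k] {X : Scheme.{u}}

/-- Ring form of smoothness over an affine open. -/
theorem smooth_ι_comp_iff (p : X ⟶ Spec (CommRingCat.of k)) {W : X.Opens} (hW : IsAffineOpen W) :
    Smooth (W.ι ≫ p) ↔ (CoordData.baseHom p W).Smooth := by
  rw [← ProjStd.toSpecΓ_baseHom]
  have : IsIso W.toSpecΓ := by
    rw [← hW.isoSpec_hom]; infer_instance
  rw [MorphismProperty.cancel_left_of_respectsIso @Smooth, HasRingHomProperty.Spec_iff (P := @Smooth)]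
  rfl

theorem smooth_baseHom (p : X ⟶ Spec (CommRingCat.of k)) [Smooth p] {W : X.Opens} (hW : IsAffineOpen W) :
    (CoordData.baseHom p W).Smooth :=
  (smooth_ι_comp_iff p hW).1 inferInstance

theorem cover_comp (p : X ⟶ Spec (CommRingCat.of k)) (J : X.IdealSheafData) (W : X.affineOpens) :
    J.subschemeCover.f W ≫ J.subschemeι ≫ p =
      Spec.map (CommRingCat.ofHom ((Ideal.Quotient.mk (J.ideal W)).comp (CoordData.baseHom p W.1))) := by
  have h1 : J.glueDataObjι W ≫ W.1.toSpecΓ = Spec.map (CommRingCat.ofHom (Ideal.Quotient.mk (J.ideal W))) := by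
    rw [Scheme.IdealSheafData.glueDataObjι, Category.assoc, ← W.2.isoSpec_hom, Iso.inv_hom_id,
      Category.comp_id]
  have h2 : J.glueDataObjι W ≫ W.1.ι ≫ p = Spec.map (CommRingCat.ofHom (Ideal.Quotient.mk (J.ideal W))) ≫
      Spec.map (CommRingCat.ofHom (CoordData.baseHom p W.1)) := by
    rw [← ProjStd.toSpecΓ_baseHom, ← Category.assoc, h1]
    rfl
  rw [← Category.assoc, J.subschemeCover_map_subschemeι]
  refine (Category.assoc _ _ _).trans (h2.trans ?_)
  exact (Spec.map_comp _ _).symm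

/-- Smoothness of a closed subscheme, checked on affine opens covering the ambient scheme. -/
theorem smooth_subschemeι (p : X ⟶ Spec (CommRingCat.of k)) (J : X.IdealSheafData) {I : Type*}
    (W : I → X.affineOpens) (hW : ∀ x : X, ∃ i, x ∈ (W i).1)
    (h : ∀ i, ((Ideal.Quotient.mk (J.ideal (W i))).comp (CoordData.baseHom p (W i).1)).Smooth) :
    Smooth (J.subschemeι ≫ p) := by
  let 𝒰 : J.subscheme.OpenCover := Scheme.Cover.mkOfCovers I (fun i => _) (fun i => J.subschemeCover.f (W i))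
    (fun x => by
      obtain ⟨i, hi⟩ := hW (J.subschemeι x)
      have h1 : x ∈ (J.subschemeCover.f (W i)).opensRange := by
        rw [J.opensRange_subschemeCover_map]; exact hi
      obtain ⟨y, hy⟩ := h1
      exact ⟨i, y, hy⟩) (fun i => by infer_instance)
  rw [IsZariskiLocalAtSource.iff_of_openCover (P := @Smooth) 𝒰]
  intro (i : I)
  change Smooth (J.subschemeCover.f (W i) ≫ J.subschemeι ≫ p)
  rw [cover_comp]
  exact (HasRingHomProperty.Spec_iff (P := @Smooth)).2 (h i)

variable {k : Type u} [Field k] {n : ℕ} {X : Scheme.{u}}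

theorem covered (k : Type u) [Field k] (n : ℕ) :
    Groth.Agent.Ega2.TwistInv.CoveredByOne (CohB1.polyGrading n k) := by
  intro x
  have h1 : ⨆ j, Proj.basicOpen (CohB1.polyGrading n k) (ProjSec.X1 k n j).1 = ⊤ :=
    iSup_basicOpen_eq_top (CohB1.polyGrading n k) (ProjSec.X1 k n) MvPolynomial.adjoin_range_X
  have h2 : x ∈ ⨆ j, Proj.basicOpen (CohB1.polyGrading n k) (ProjSec.X1 k n j).1 := h1 ▸ trivial
  obtain ⟨j, hj⟩ := Opens.mem_iSup.1 h2
  exact ⟨ProjSec.X1 k n j, Proj.basicOpen (CohB1.polyGrading n k) (ProjSec.X1 k n j).1, hj, fun y hy => hy⟩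

theorem isInvertible (k : Type u) [Field k] (n : ℕ) : PicF.IsInvertible (Twist.twist (CohB1.polyGrading n k) 1) :=
  Groth.Agent.Ega2.TwistInv.isInvertible_twist (covered k n) 1

/-- The section of `O(1)` attached to a linear form. -/
noncomputable def secOf (h : CohB1.polyGrading n k 1) :
    Coh.structureModule (Proj (CohB1.polyGrading n k)) ⟶ Twist.twist (CohB1.polyGrading n k) 1 :=
  Groth.Agent.Fdesc.LocGen.homOf (glob (CohB1.polyGrading n k) h)

theorem sec_secOf (h : CohB1.polyGrading n k 1) (j : Fin (n + 1)) :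
    Groth.Agent.Fdesc.LocGen.sec (secOf h) (Proj.basicOpen (CohB1.polyGrading n k) (ProjSec.X1 k n j).1) =
      ratio (CohB1.polyGrading n k) (ProjSec.X1 k n j) h •
        Groth.Agent.Fdesc.LocGen.res (Twist.twist (CohB1.polyGrading n k) 1) le_top
          (glob (CohB1.polyGrading n k) (ProjSec.X1 k n j)) := by
  rw [secOf, Groth.Agent.Fdesc.LocGen.sec_homOf, glob_eq_smul]

/-- The standard affine open. -/
noncomputable def Daff (k : Type u) [Field k] (n : ℕ) (j : Fin (n + 1)) :
    (Proj (CohB1.polyGrading n k)).affineOpens :=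
  ⟨Proj.basicOpen (CohB1.polyGrading n k) (ProjSec.X1 k n j).1,
    Proj.isAffineOpen_basicOpen _ _ (ProjSec.X1 k n j).2 Nat.one_pos⟩

theorem ideal_zeroScheme (h : CohB1.polyGrading n k 1) (j : Fin (n + 1)) :
    (PicF2.zeroScheme (Twist.twist (CohB1.polyGrading n k) 1) (secOf h)).ideal (Daff k n j) =
      Ideal.span {ratio (CohB1.polyGrading n k) (ProjSec.X1 k n j) h} :=
  Groth.Agent.Pi1C.ZeroScheme.ideal_eq_span (secOf h) (isInvertible k n) (Daff k n j)
    (isGen_glob (CohB1.polyGrading n k) (ProjSec.X1 k n j)) (sec_secOf h j)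

theorem mem_support_iff (h : CohB1.polyGrading n k 1) (y : Proj (CohB1.polyGrading n k)) :
    y ∈ (PicF2.zeroScheme (Twist.twist (CohB1.polyGrading n k) 1) (secOf h)).support ↔
      (h : MvPolynomial (Fin (n + 1)) k) ∈ y.asHomogeneousIdeal := by
  have h1 : ⨆ j, Proj.basicOpen (CohB1.polyGrading n k) (ProjSec.X1 k n j).1 = ⊤ :=
    iSup_basicOpen_eq_top (CohB1.polyGrading n k) (ProjSec.X1 k n) MvPolynomial.adjoin_range_X
  have h2 : y ∈ ⨆ j, Proj.basicOpen (CohB1.polyGrading n k) (ProjSec.X1 k n j).1 := h1 ▸ trivial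
  obtain ⟨j, hj⟩ := Opens.mem_iSup.1 h2
  rw [Groth.Agent.Pi1C.ZeroScheme.mem_support_iff (secOf h) (isInvertible k n)]
  have h3 : CohB1.genLocus _ (secOf h) ⊓ (Proj.basicOpen (CohB1.polyGrading n k) (ProjSec.X1 k n j).1) =
      (Proj (CohB1.polyGrading n k)).basicOpen (ratio (CohB1.polyGrading n k) (ProjSec.X1 k n j) h) :=
    Groth.Agent.Fdesc.LocGen.genLocus_inf_eq (secOf h) (isGen_glob (CohB1.polyGrading n k) (ProjSec.X1 k n j))
      (sec_secOf h j)
  rw [basicOpen_ratio] at h3
  constructor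
  · intro hy
    by_contra hh
    have : y ∈ CohB1.genLocus _ (secOf h) ⊓ (Proj.basicOpen (CohB1.polyGrading n k) (ProjSec.X1 k n j).1) := by
      rw [h3]; exact ⟨hj, hh⟩
    exact hy this.1
  · intro hh hy
    have : y ∈ CohB1.genLocus _ (secOf h) ⊓ (Proj.basicOpen (CohB1.polyGrading n k) (ProjSec.X1 k n j).1) := ⟨hy, hj⟩
    rw [h3] at this
    exact this.2 hh

/-- The hyperplane section of a smooth closed subscheme by a transversal hyperplane is smooth. -/
theorem smooth_section (ι : X ⟶ Proj (CohB1.polyGrading n k)) [IsClosedImmersion ι]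
    (hsm : ∀ j, letI := ProjSec.alg ι j; Algebra.Smooth k Γ(X, ProjSec.W ι j)) (h : CohB1.polyGrading n k 1)
    (ht : ∀ j, letI := ProjSec.alg ι j; AffBertini.Transv k (ProjSec.θ ι j h)) :
    Smooth (pullback.fst ι (PicF2.zeroScheme (Twist.twist (CohB1.polyGrading n k) 1) (secOf h)).subschemeι ≫ ι ≫
        CohB1.ProjSpace.toSpec n k) := by
  let Z := PicF2.zeroScheme (Twist.twist (CohB1.polyGrading n k) 1) (secOf h)
  rw [← Z.comapIso_inv_subschemeι ι, Category.assoc, MorphismProperty.cancel_left_of_respectsIso @Smooth]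
  let Waff : Fin (n + 1) → X.affineOpens := fun j => ⟨ProjSec.W ι j, ProjSec.isAffineOpen_W ι j⟩
  refine smooth_subschemeι (ι ≫ CohB1.ProjSpace.toSpec n k) (Z.comap ι) Waff (ProjSec.exists_mem_W ι) fun j => ?_
  have h1 : (Z.comap ι).ideal (Waff j) = Ideal.span {ProjSec.θ ι j h} := by
    rw [Groth.Agent.Divis.IdealComap.ideal_comap Z ι (Daff k n j) (Waff j) le_rfl, ideal_zeroScheme,
      ProjSec.θ_lin, Scheme.Hom.app_eq_appLE]
    refine (Ideal.map_span _ _).trans ?_
    exact congrArg Ideal.span (Set.image_singleton)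
  let _ := ProjSec.alg ι j
  have hs := hsm j
  have h2 : ((Ideal.Quotient.mk ((Z.comap ι).ideal (Waff j))).comp
      (CoordData.baseHom (ι ≫ CohB1.ProjSpace.toSpec n k) (Waff j).1)) =
      algebraMap k (Γ(X, ProjSec.W ι j) ⧸ (Z.comap ι).ideal (Waff j)) := by
    change (Ideal.Quotient.mk ((Z.comap ι).ideal (Waff j))).comp
      (CoordData.baseHom (ι ≫ CohB1.ProjSpace.toSpec n k) (ProjSec.W ι j)) = _
    rw [← ProjSec.algebraMap_alg]
    rfl
  rw [h2, h1, RingHom.smooth_algebraMap]
  exact AffBertini.smooth_quotient _ (ht j)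

end K658.SecSmooth
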