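import Groth.Agent.SmVar.K658.SmAlg
import Groth.Agent.S2143
import Groth.Agent.S0558
import Mathlib.RingTheory.LocalProperties.Reduced
import Mathlib.RingTheory.Spectrum.Prime.Homeomorph

/-!
# Smoothness and regularity of irreducible affine varieties through differentials
-/

set_option autoImplicit false
universe u

open IsLocalRing TensorProduct Algebra

namespace K658.SmIrr

open Groth.Agent

/-- The local dimension of the spectrum of a domain of finite type over a field. -/
theorem localDim_domain (k : Type u) [Field k] (A : Type u) [CommRing A] [IsDomain A] [Algebra k A]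
    [Algebra.FiniteType k A] (p : PrimeSpectrum A) :
    ringKrullDim A ≤ FlatMor.localDim (PrimeSpectrum A) p := by
  rw [show p = ⟨p.asIdeal, p.isPrime⟩ from rfl, Groth.Agent.S2143.result (k := k) p.asIdeal]
  refine le_iInf fun m ↦ ?_
  have := m.2.1
  have := m.2.1.isPrime'
  rw [IsLocalization.AtPrime.ringKrullDim_eq_height m.1 (Localization.AtPrime m.1), Groth.Agent.Ega4B.DimFT.height_maximal k A m.1]

/-- The local dimension of an irreducible affine scheme of finite type over a field. -/
theorem localDim_irreducible (k : Type u) [Field k] (A : Type u) [CommRing A] [Algebra k A]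
    [Algebra.FiniteType k A] (hirr : (nilradical A).IsPrime) (p : PrimeSpectrum A) :
    ringKrullDim A ≤ FlatMor.localDim (PrimeSpectrum A) p := by
  let B := A ⧸ nilradical A
  have hdom : IsDomain B := Ideal.Quotient.isDomain _
  have hh : IsHomeomorph (PrimeSpectrum.comap (Ideal.Quotient.mk (nilradical A))) := by
    refine PrimeSpectrum.isHomeomorph_comap _ (fun x ↦ ?_) (by rw [Ideal.mk_ker])
    obtain ⟨y, rfl⟩ := Ideal.Quotient.mk_surjective x
    exact ⟨1, one_pos, ⟨y, by rw [pow_one]⟩⟩
  obtain ⟨q, rfl⟩ := hh.surjective p
  have hdim : ringKrullDim A = ringKrullDim B := by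
    rw [← PrimeSpectrum.topologicalKrullDim_eq_ringKrullDim,
      ← PrimeSpectrum.topologicalKrullDim_eq_ringKrullDim]
    exact (IsHomeomorph.topologicalKrullDim_eq _ hh).symm
  rw [hdim]
  refine le_iInf fun U ↦ ?_
  let f := PrimeSpectrum.comap (Ideal.Quotient.mk (nilradical A))
  let V : TopologicalSpace.Opens (PrimeSpectrum B) := ⟨f ⁻¹' U.1.1, U.1.2.preimage hh.continuous⟩
  have h1 := (localDim_domain k B q).trans
    (iInf_le (fun U : {U : TopologicalSpace.Opens (PrimeSpectrum B) // q ∈ U} ↦
      topologicalKrullDim (U.1 : Set (PrimeSpectrum B))) ⟨V, U.2⟩)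
  refine h1.trans ?_
  let g : V → U.1 := fun v ↦ ⟨f v.1, v.2⟩
  have hg : Topology.IsInducing g := by
    refine Topology.IsInducing.of_comp ?_ continuous_subtype_val ?_
    · exact (hh.continuous.comp continuous_subtype_val).subtype_mk _
    · exact hh.isInducing.comp Topology.IsInducing.subtypeVal
  exact hg.topologicalKrullDim_le

/-- Regularity of a closed subscheme of a smooth scheme over a perfect field. -/
theorem isRegularRing_iff (k : Type u) [Field k]
    [PerfectField k] (A B : Type u) [CommRing A] [CommRing B] [Algebra k A] [Algebra.FiniteType k A]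
    [IsRegularRing A] [Algebra A B] [Algebra k B] [IsScalarTower k A B]
    (hsurj : Function.Surjective (algebraMap A B)) :
    IsRegularRing B ↔
      (Module.Projective B (Ω[B⁄k]) ∧
        Function.Injective (KaehlerDifferential.kerCotangentToTensor k A B)) := by
  have hA : Algebra.Smooth k A := (SmAlg.smooth_iff_isRegularRing k A).2 inferInstance
  have hB : Algebra.FiniteType k B :=
    Algebra.FiniteType.of_surjective (IsScalarTower.toAlgHom k A B) hsurj
  have hBp : Algebra.FinitePresentation k B := (Algebra.FinitePresentation.of_finiteType).1 inferInstance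
  rw [← SmAlg.smooth_iff_isRegularRing k B,
    Algebra.FormallySmooth.kerCotangentToTensor_injective_iff hsurj]
  constructor
  · intro h
    exact (Algebra.formallySmooth_iff k B).1 inferInstance
  · intro h
    exact ⟨(Algebra.formallySmooth_iff k B).2 h, inferInstance⟩

theorem isReduced_and_isRegularRing_iff (k : Type u) [Field k]
    [PerfectField k] (A : Type u) [CommRing A] [Algebra k A] [Algebra.FiniteType k A]
    (hirr : (nilradical A).IsPrime) (n : ℕ) (hn : ringKrullDim A = n) :
    (IsReduced A ∧ IsRegularRing A) ↔
      (Module.Projective A (Ω[A⁄k]) ∧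
        ∀ (P : Ideal A) [P.IsPrime],
          Module.finrank P.ResidueField (P.ResidueField ⊗[A] Ω[A⁄k]) = n) := by
  constructor
  · rintro ⟨hred, hreg⟩
    have hA : Algebra.Smooth k A := (SmAlg.smooth_iff_isRegularRing k A).2 inferInstance
    refine ⟨inferInstance, fun P _ ↦ ?_⟩
    have hdom : IsDomain A := by
      rw [nilradical_eq_zero] at hirr
      have : (⊥ : Ideal A).IsPrime := hirr
      exact IsDomain.of_bot_isPrime A
    obtain ⟨m, hm, hm'⟩ := Groth.Agent.Ega4B.DimFT.exists_dim k A
    have hmn : m = n := by
      rw [hm'] at hn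
      exact_mod_cast hn
    subst hmn
    refine Groth.Agent.CycA.MovJet.finrank_residueField m hm P ?_
    have : (⟨P, inferInstance⟩ : PrimeSpectrum A) ∈ Algebra.smoothLocus k A := by
      rw [Algebra.smoothLocus_eq_univ]; trivial
    exact this
  · rintro ⟨-, hP⟩
    have hfp : Algebra.FinitePresentation k A := (Algebra.FinitePresentation.of_finiteType).1 inferInstance
    have hsm : Algebra.FormallySmooth k A := by
      rw [← Algebra.smoothLocus_eq_univ_iff, Set.eq_univ_iff_forall]
      intro p
      change Algebra.IsSmoothAt k p.asIdeal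
      rw [Groth.Agent.S2063.result, hP p.asIdeal]
      have := localDim_irreducible k A hirr p
      rw [hn] at this
      exact this
    have hsm' : Algebra.Smooth k A := ⟨inferInstance, inferInstance⟩
    have hreg : IsRegularRing A := (SmAlg.smooth_iff_isRegularRing k A).1 hsm'
    refine ⟨?_, hreg⟩
    refine isReduced_ofLocalizationMaximal _ fun J _ ↦ ?_
    have := hreg.isRegularLocalRing_localization J
    have := Groth.Agent.S0558.result (Localization.AtPrime J)
    infer_instance

end K658.SmIrr
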