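import Groth.Agent.OmegaSh.K583.BaseChange
import Groth.Agent.OmegaSh.K584.ConTrans
import Mathlib.RingTheory.Etale.Kaehler
import Mathlib.RingTheory.Etale.Field
import Mathlib.RingTheory.Smooth.Kaehler
import Mathlib.AlgebraicGeometry.FunctionField
import Mathlib.AlgebraicGeometry.ResidueField
import Mathlib.AlgebraicGeometry.Morphisms.Smooth

/-!
# Injectivity of `φ^* Ω_Y → Ω_X` for dominant separable morphisms
-/

set_option autoImplicit false
universe u

open CategoryTheory AlgebraicGeometry Limits Opposite TopologicalSpace OmegaSh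
open scoped TensorProduct

namespace K658.OmegaSep

open K583.AlgUniv K583.UnivAffine K583.BaseChange Groth.Agent.CohqA.BaseChangeMod
  Groth.Agent.CohqA.PullbackQCoh

section Ring

variable {A B B' : Type u} [CommRing A] [CommRing B] [CommRing B'] [Algebra A B] [Algebra B B']
  [Algebra A B'] [IsScalarTower A B B']

/-- `B' ⊗ Ω_B → Ω_{B'}` is injective if `Ω_B` is flat and `B'` embeds in a formally étale `B`-algebra. -/
theorem injective_mapBaseChange_of_formallyEtale (L : Type u) [CommRing L] [Algebra B' L] [Algebra B L]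
    [IsScalarTower B B' L] [Algebra A L] [IsScalarTower A B L] [IsScalarTower A B' L] [Algebra.FormallyEtale B L]
    (hinj : Function.Injective (algebraMap B' L)) [Module.Flat B Ω[B⁄A]] :
    Function.Injective (KaehlerDifferential.mapBaseChange A B B') := by
  let j : B' →ₗ[B] L := (IsScalarTower.toAlgHom B B' L).toLinearMap
  let r : B' ⊗[B] Ω[B⁄A] →ₗ[B] L ⊗[B] Ω[B⁄A] := j.rTensor _
  have hr : Function.Injective r := Module.Flat.rTensor_preserves_injective_linearMap (M := Ω[B⁄A]) j hinj
  have key : ∀ x, KaehlerDifferential.mapBaseChange A B L (r x) =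
      KaehlerDifferential.map A A B' L (KaehlerDifferential.mapBaseChange A B B' x) := by
    intro x
    induction x using TensorProduct.induction_on with
    | zero => simp
    | add x y hx hy => rw [map_add, map_add, map_add, map_add, hx, hy]
    | tmul b w =>
      have hw : w ∈ Submodule.span B (Set.range (KaehlerDifferential.D A B)) := by
        rw [KaehlerDifferential.span_range_derivation]
        trivial
      induction hw using Submodule.span_induction with
      | mem w hw =>
        obtain ⟨c, rfl⟩ := hw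
        simp only [r, LinearMap.rTensor_tmul, KaehlerDifferential.mapBaseChange_tmul, KaehlerDifferential.map_D,
          map_smul]
        change (algebraMap B' L b) • KaehlerDifferential.D A L (algebraMap B L c) =
          b • KaehlerDifferential.D A L (algebraMap B' L (algebraMap B B' c))
        rw [← IsScalarTower.algebraMap_apply, algebraMap_smul]
      | zero => simp
      | add x y _ _ hx hy => rw [TensorProduct.tmul_add, map_add, map_add, map_add, map_add, hx, hy]
      | smul a x _ hx =>
        rw [TensorProduct.tmul_smul, map_smul, ← algebraMap_smul L a (r _), map_smul, hx, algebraMap_smul,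
          ← algebraMap_smul B' a (b ⊗ₜ[B] x), map_smul, map_smul, algebraMap_smul]
  have he : Function.Injective (KaehlerDifferential.mapBaseChange A B L) := by
    have h1 : (KaehlerDifferential.mapBaseChange A B L : L ⊗[B] Ω[B⁄A] → Ω[L⁄A]) =
        KaehlerDifferential.tensorKaehlerEquivOfFormallyEtale A B L := by
      funext x
      rw [KaehlerDifferential.tensorKaehlerEquivOfFormallyEtale_apply]
    rw [h1]
    exact (KaehlerDifferential.tensorKaehlerEquivOfFormallyEtale A B L).injective
  rw [injective_iff_map_eq_zero]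
  intro x hx
  apply hr
  apply he
  rw [key, hx, map_zero, map_zero, map_zero]

variable {M N M' : Type u} [AddCommGroup M] [Module B M] [AddCommGroup N] [Module B' N]
  [AddCommGroup M'] [Module B' M']

theorem injective_of_isBC (hinj : Function.Injective (KaehlerDifferential.mapBaseChange A B B'))
    {δ : B →+ M} (h : IsAlgUniv (algebraMap A B) δ)
    {δ' : B' →+ M'} (h' : IsAlgUniv (algebraMap A B') δ') {f : M →+ N} (hf : IsBC (algebraMap B B') f)
    (g : N →ₗ[B'] M') (hg : ∀ b, g (f (δ b)) = δ' (algebraMap B B' b)) : Function.Injective g := by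
  obtain ⟨e, he⟩ := h.exists_kaehler_equiv
  obtain ⟨e', he'⟩ := h'.exists_kaehler_equiv
  let _ : Module B N := Module.compHom N (algebraMap B B')
  have : IsScalarTower B B' N := IsScalarTower.of_algebraMap_smul fun _ _ => rfl
  let f₀ : M →ₗ[B] N := { f with map_smul' := hf.map_smul }
  have hf₀ : IsBaseChange B' f₀ := (isBC_iff_isBaseChange f₀).1 hf
  let E : B' ⊗[B] Ω[B⁄A] ≃ₗ[B'] N := (LinearEquiv.baseChange B B' _ _ e).trans hf₀.equiv
  have hE : ∀ b, E (1 ⊗ₜ KaehlerDifferential.D A B b) = f (δ b) := fun b => by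
    change hf₀.equiv ((LinearEquiv.baseChange B B' _ _ e) (1 ⊗ₜ KaehlerDifferential.D A B b)) = _
    rw [LinearEquiv.baseChange_tmul, he, IsBaseChange.equiv_tmul, one_smul]
    rfl
  let _ : Module B M' := Module.compHom M' (algebraMap B B')
  have : IsScalarTower B B' M' := IsScalarTower.of_algebraMap_smul fun _ _ => rfl
  have hcomm : g ∘ₗ E.toLinearMap = e'.toLinearMap ∘ₗ KaehlerDifferential.mapBaseChange A B B' := by
    apply TensorProduct.AlgebraTensorModule.curry_injective
    ext w
    change g (E (1 ⊗ₜ w)) = e' (KaehlerDifferential.mapBaseChange A B B' (1 ⊗ₜ w))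
    have hw : w ∈ Submodule.span B (Set.range (KaehlerDifferential.D A B)) := by
      rw [KaehlerDifferential.span_range_derivation]
      trivial
    induction hw using Submodule.span_induction with
    | mem w hw =>
      obtain ⟨b, rfl⟩ := hw
      rw [hE, hg, KaehlerDifferential.mapBaseChange_tmul, one_smul, KaehlerDifferential.map_D, he']
    | zero => simp
    | add x y _ _ hx hy => rw [TensorProduct.tmul_add, map_add, map_add, map_add, map_add, hx, hy]
    | smul b x _ hx =>
      rw [TensorProduct.tmul_smul, ← algebraMap_smul B' b, map_smul, map_smul, map_smul, map_smul, hx]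
  have hinj : Function.Injective (g ∘ₗ E.toLinearMap) := by
    rw [hcomm]
    exact e'.injective.comp hinj
  intro x y hxy
  obtain ⟨x, rfl⟩ := E.surjective x
  obtain ⟨y, rfl⟩ := E.surjective y
  rw [hinj hxy]

end Ring

section Scheme

variable {X Y S : Scheme.{u}}

theorem map_genericPoint [IsIntegral X] [IsIntegral Y] (φ : X ⟶ Y) (hdom : DenseRange φ.base) :
    φ (genericPoint X) = genericPoint Y := by
  have h1 : IsGenericPoint (φ (genericPoint X)) (closure (φ '' Set.univ)) :=
    (genericPoint_spec X).image φ.continuous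
  have h2 : closure (φ '' Set.univ) = Set.univ := by
    rw [Set.image_univ]
    exact hdom.closure_range
  rw [h2] at h1
  exact h1.eq (genericPoint_spec Y)

theorem isField_stalk [IsIntegral Y] (y : Y) (hy : y = genericPoint Y) : IsField (Y.presheaf.stalk y) := by
  subst hy
  exact Field.toIsField Y.functionField

theorem residue_bijective [IsIntegral Y] (y : Y) (hy : y = genericPoint Y) :
    Function.Bijective (Y.residue y).hom := by
  have hf := isField_stalk y hy
  refine ⟨?_, IsLocalRing.residue_surjective⟩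
  rw [injective_iff_map_eq_zero]
  intro a ha
  have h1 : a ∈ IsLocalRing.maximalIdeal (Y.presheaf.stalk y) := by
    rw [← IsLocalRing.residue_eq_zero_iff]; exact ha
  rw [IsLocalRing.isField_iff_maximalIdeal_eq.1 hf] at h1
  exact h1

/-- For a dominant separable morphism `f` of integral schemes, with `Y` smooth over `S`, the map
`f^* Ω_{Y/S} → Ω_{X/S}` is a monomorphism. -/
theorem mono_of_separable [IsIntegral X] [IsIntegral Y] {g : Y ⟶ S} {h : X ⟶ S} (f : X ⟶ Y) (w : f ≫ g = h)
    [Smooth g] (hdom : DenseRange f.base)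
    (hsep : letI := (f.residueFieldMap (genericPoint X)).hom.toAlgebra
      Algebra.IsSeparable (Y.residueField (f.base (genericPoint X))) (X.residueField (genericPoint X)))
    {ΩY : Y.Modules} {dY : Der g ΩY} (hY : IsUniversal dY)
    {ΩX : X.Modules} {dX : Der h ΩX} (hX : IsUniversal dX)
    (c : (Scheme.Modules.pullback f).obj ΩY ⟶ ΩX) (hc : IsDiffCompat f dY dX c) : Mono c := by
  have hq : ΩY.IsQuasicoherent := isQuasicoherent_of_isUniversal hY
  refine K584.ConTrans.mono_of_basis c (fun U => ∃ (V : Y.Opens) (W : S.Opens), IsAffineOpen U ∧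
    IsAffineOpen V ∧ IsAffineOpen W ∧ U ≤ f ⁻¹ᵁ V ∧ V ≤ g ⁻¹ᵁ W ∧ Nonempty U) ?_ ?_
  · intro x O hx
    obtain ⟨W, hW, hxW, -⟩ := exists_isAffineOpen_mem_and_subset (x := g (f x)) (U := ⊤) trivial
    obtain ⟨V, hV, hxV, e⟩ := exists_isAffineOpen_mem_and_subset (x := f x) (U := g ⁻¹ᵁ W) hxW
    obtain ⟨U, hU, hxU, e'⟩ := exists_isAffineOpen_mem_and_subset (x := x) (U := O ⊓ f ⁻¹ᵁ V) ⟨hx, hxV⟩
    exact ⟨U, fun y hy => (e' hy).1, hxU, V, W, hU, hV, hW, fun y hy => (e' hy).2, e, ⟨x, hxU⟩⟩
  · rintro U ⟨V, W, hU, hV, hW, e, e', hne⟩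
    have e'' : U ≤ h ⁻¹ᵁ W := by
      rw [← w]
      exact e.trans (f.preimage_mono e')
    let _ := (g.appLE W V e').hom.toAlgebra
    let _ := (f.appLE V U e).hom.toAlgebra
    let _ := (h.appLE W U e'').hom.toAlgebra
    have : IsScalarTower Γ(S, W) Γ(Y, V) Γ(X, U) := IsScalarTower.of_algebraMap_eq fun s => by
      change h.appLE W U e'' s = f.appLE V U e (g.appLE W V e' s)
      subst w
      rw [← CommRingCat.comp_apply, Scheme.Hom.appLE_comp_appLE]
    have hsm : Algebra.Smooth Γ(S, W) Γ(Y, V) := g.smooth_appLE hW hV e'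
    have hflat : Module.Flat Γ(Y, V) Ω[Γ(Y, V)⁄Γ(S, W)] := inferInstance
    -- the generic points
    let ξ := genericPoint X
    have hξU : ξ ∈ U := (genericPoint_spec X).mem_open_set_iff U.2 |>.2 (by
      obtain ⟨x⟩ := hne
      exact ⟨x.1, trivial, x.2⟩)
    have hηV : f ξ ∈ V := e hξU
    have hη : f ξ = genericPoint Y := map_genericPoint f hdom
    let L := X.residueField ξ
    let K := Y.residueField (f ξ)
    let Oy := Y.presheaf.stalk (f ξ)
    let aU : Γ(X, U) →+* L := (X.residue ξ).hom.comp (X.presheaf.germ U ξ hξU).hom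
    let aV : Γ(Y, V) →+* K := (Y.residue (f ξ)).hom.comp (Y.presheaf.germ V (f ξ) hηV).hom
    let _ : Algebra Γ(X, U) L := aU.toAlgebra
    let _ : Algebra Γ(Y, V) Oy := (Y.presheaf.germ V (f ξ) hηV).hom.toAlgebra
    let _ : Algebra Oy K := (Y.residue (f ξ)).hom.toAlgebra
    let _ : Algebra Γ(Y, V) K := aV.toAlgebra
    let _ : Algebra K L := (f.residueFieldMap ξ).hom.toAlgebra
    let _ : Algebra Γ(Y, V) L := (aU.comp (algebraMap Γ(Y, V) Γ(X, U))).toAlgebra
    let _ : Algebra Γ(S, W) L := (aU.comp (algebraMap Γ(S, W) Γ(X, U))).toAlgebra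
    have : IsScalarTower Γ(Y, V) Γ(X, U) L := IsScalarTower.of_algebraMap_eq fun _ => rfl
    have : IsScalarTower Γ(S, W) Γ(X, U) L := IsScalarTower.of_algebraMap_eq fun _ => rfl
    have : IsScalarTower Γ(S, W) Γ(Y, V) L := IsScalarTower.of_algebraMap_eq fun r => by
      change aU (algebraMap Γ(S, W) Γ(X, U) r) = aU (algebraMap Γ(Y, V) Γ(X, U) (algebraMap Γ(S, W) Γ(Y, V) r))
      rw [← IsScalarTower.algebraMap_apply]
    have : IsScalarTower Γ(Y, V) Oy K := IsScalarTower.of_algebraMap_eq fun _ => rfl
    have : IsScalarTower Γ(Y, V) K L := IsScalarTower.of_algebraMap_eq fun r => by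
      change (X.residue ξ) (X.presheaf.germ U ξ hξU (f.appLE V U e r)) =
        f.residueFieldMap ξ (Y.residue (f ξ) (Y.presheaf.germ V (f ξ) hηV r))
      rw [← CommRingCat.comp_apply (Y.residue (f ξ)), Scheme.residue_residueFieldMap, CommRingCat.comp_apply,
        Scheme.Hom.germ_stalkMap_apply]
      congr 1
      rw [Scheme.Hom.appLE, CommRingCat.comp_apply]
      exact TopCat.Presheaf.germ_res_apply X.presheaf (homOfLE e) ξ hξU (f.app V r)
    have hfe1 : Algebra.FormallyEtale Γ(Y, V) Oy := by
      have hloc : IsLocalization.AtPrime Oy (hV.primeIdealOf ⟨f ξ, hηV⟩).asIdeal := hV.isLocalization_stalk ⟨f ξ, hηV⟩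
      exact Algebra.FormallyEtale.of_isLocalization (hV.primeIdealOf ⟨f ξ, hηV⟩).asIdeal.primeCompl
    have hfe2 : Algebra.FormallyEtale Oy K :=
      Algebra.FormallyEtale.of_equiv (AlgEquiv.ofBijective (Algebra.ofId Oy K) (residue_bijective (f ξ) hη))
    have hfe3 : Algebra.FormallyEtale Γ(Y, V) K := Algebra.FormallyEtale.comp Γ(Y, V) Oy K
    have hfe4 : Algebra.FormallyEtale K L := by
      have : Algebra.IsSeparable K L := hsep
      exact Algebra.FormallyEtale.of_isSeparable K L
    have hfe5 : Algebra.FormallyEtale Γ(Y, V) L := Algebra.FormallyEtale.comp Γ(Y, V) K L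
    have hinj : Function.Injective (algebraMap Γ(X, U) L) :=
      (residue_bijective ξ rfl).1.comp (germ_injective_of_isIntegral X ξ hξU)
    have hmb : Function.Injective (KaehlerDifferential.mapBaseChange Γ(S, W) Γ(Y, V) Γ(X, U)) :=
      injective_mapBaseChange_of_formallyEtale L hinj
    have h1 := isBC_pbSec f ΩY hV hU e
    exact injective_of_isBC (A := Γ(S, W)) (B := Γ(Y, V)) (B' := Γ(X, U)) hmb (isAlgUniv_app hY hV hW e')
      (isAlgUniv_app hX hU hW e'') h1
      { (c.app U).hom with map_smul' := fun r x => Scheme.Modules.Hom.app_smul c r x }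
      (fun b => compSec_app hc V U e b)

end Scheme

end K658.OmegaSep
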